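import Cfsg.Agent.H478.RadTools_m3
import Cfsg.Agent.H403.TitsSixteen
import Cfsg.Agent.FastGrp
import Cfsg.Agent.Prune
set_option linter.all false
prune_inst 0x7f00000000000000000000000000000000000000000000000000000000000000000000000000000000000000000000000000000000000000000000000000000000000000000000000000000000000000003fffffffffffffffffffffffffffbeffbdffffffff
open scoped Cfsg.Agent.FastGrp

/-!
# Radical elements of prime order at least five: the row of the Tits group (helper804, for S3829)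

`endAt_tits` : `EndAt p K` for the Tits group.  For `p = 5` two conjugate elements `a`, `g` of order five with
`(a g) ^ 13 = 1`, `(a g²) ^ 8 = 1` generate a perfect group.
-/

set_option autoImplicit false

namespace Cfsg.Agent.H804.TitsFive

open Subgroup Cfsg
open Cfsg.Agent.H459.Iface Cfsg.Agent.H459.Rad
open Cfsg.Agent.SignalizersComponents.ComponentExists

section Gen

variable {G : Type*} [Group G]

theorem comm_one {A : Type*} [CommGroup A] {y z : A} (hy : y ^ 5 = 1) (hz : z ^ 5 = 1) (h1 : (y * z) ^ 13 = 1)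
    (h2 : (y * z ^ 2) ^ 8 = 1) : y = 1 ∧ z = 1 := by
  have e1 : y * z = 1 := by
    have h3 : (y * z) ^ 5 = 1 := by rw [mul_pow, hy, hz, one_mul]
    have h4 : (y * z) ^ 26 = 1 := by
      rw [show 26 = 13 * 2 from rfl, pow_mul, h1, one_pow]
    have h5 : (y * z) ^ 25 = 1 := by
      rw [show 25 = 5 * 5 from rfl, pow_mul, h3, one_pow]
    rw [pow_succ, h5, one_mul] at h4
    exact h4
  have e2 : y * z ^ 2 = 1 := by
    have h3 : (y * z ^ 2) ^ 5 = 1 := by
      rw [mul_pow, hy, ← pow_mul, mul_comm 2 5, pow_mul, hz, one_pow, one_mul]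
    have h4 : (y * z ^ 2) ^ 16 = 1 := by
      rw [show 16 = 8 * 2 from rfl, pow_mul, h2, one_pow]
    have h5 : (y * z ^ 2) ^ 15 = 1 := by
      rw [show 15 = 5 * 3 from rfl, pow_mul, h3, one_pow]
    rw [pow_succ, h5, one_mul] at h4
    exact h4
  have e3 : z = 1 := by
    have h3 : y * z * z = 1 := by
      rw [mul_assoc, ← pow_two]; exact e2
    rwa [e1, one_mul] at h3
  rw [e3, mul_one] at e1
  exact ⟨e1, e3⟩

/-- two elements of order five with these relations generate a non-solvable group -/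
theorem not_solvable {y z : G} (hy : y ^ 5 = 1) (hz : z ^ 5 = 1) (h1 : (y * z) ^ 13 = 1)
    (h2 : (y * z ^ 2) ^ 8 = 1) (hne : y ≠ 1) (S : Subgroup G) (hyS : y ∈ S) (hzS : z ∈ S) :
    ¬ Group.IsSolvable S := by
  intro hs
  set M : Subgroup G := _root_.Subgroup.closure {y, z} with hM
  have hMS : M ≤ S := by
    rw [hM, closure_le]
    rintro _ (rfl | rfl)
    · exact hyS
    · exact hzS
  have hMs : Group.IsSolvable M := isSolvable_of_le hMS hs
  have hyM : y ∈ M := _root_.Subgroup.subset_closure (Or.inl rfl)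
  have hzM : z ∈ M := _root_.Subgroup.subset_closure (Or.inr rfl)
  have hperf : _root_.commutator M = ⊤ := by
    have h3 : (⊤ : Subgroup M) ≤ _root_.commutator M := by
      have h4 : _root_.Subgroup.closure ({⟨y, hyM⟩, ⟨z, hzM⟩} : Set M) = ⊤ := by
        apply map_injective M.subtype_injective
        rw [MonoidHom.map_closure, ← MonoidHom.range_eq_map, range_subtype, Set.image_pair]
        rfl
      rw [← h4, closure_le]
      have h5 := comm_one (A := Abelianization M) (y := Abelianization.of ⟨y, hyM⟩)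
        (z := Abelianization.of ⟨z, hzM⟩) (by rw [← map_pow]; exact (congrArg _ (Subtype.ext hy)).trans (map_one _))
        (by rw [← map_pow]; exact (congrArg _ (Subtype.ext hz)).trans (map_one _))
        (by rw [← map_mul, ← map_pow]; exact (congrArg _ (Subtype.ext h1)).trans (map_one _))
        (by rw [← map_pow, ← map_mul, ← map_pow]; exact (congrArg _ (Subtype.ext h2)).trans (map_one _))
      rintro _ (rfl | rfl)
      · exact (QuotientGroup.eq_one_iff _).1 h5.1
      · exact (QuotientGroup.eq_one_iff _).1 h5.2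
    exact top_le_iff.1 h3
  have h6 : ∀ n, derivedSeries M n = ⊤ := by
    intro n
    induction n with
    | zero => rfl
    | succ n ih => rw [derivedSeries_succ, ih]; exact hperf
  obtain ⟨n, hn⟩ := (Group.isSolvable_def M).1 hMs
  rw [h6 n] at hn
  have h7 : (⟨y, hyM⟩ : M) ∈ (⊥ : Subgroup M) := by rw [← hn]; exact mem_top _
  exact hne (congrArg Subtype.val (mem_bot.1 h7))

end Gen

section Model

open Cfsg.Agent.Omega.TwoF.Tits Cfsg.Agent.Omega.TwoF.Scalar Cfsg.Agent.Omega.TwoF.Orb
  Cfsg.Agent.ChevalleyStructure.Tits.Main Cfsg.Agent.ChevalleyStructure.Tits.Mat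
  Cfsg.Agent.ChevalleyStructure.Tits.Order

/-- the conjugating element -/
noncomputable def g8 : C := ⟨wH [8], wH_mem (by decide +kernel)⟩

theorem g8_sq : g8 * g8 = 1 := by
  apply Subtype.ext
  show wH [8] * wH [8] = 1
  rw [← wH_append]
  exact rel (u := [8] ++ [8]) (v := []) (by decide +kernel)

/-- the word of `g a g⁻¹` -/
def wz : List ℕ := [8] ++ wa ++ [8]

theorem coe_z : ((g8 * a * g8⁻¹ : C) : H0) = wH wz := by
  have h : g8⁻¹ = g8 := inv_eq_of_mul_eq_one_right g8_sq
  rw [h]
  show wH [8] * wH wa * wH [8] = wH wz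
  rw [← wH_append, ← wH_append]
  rfl

theorem pow13 : (a * (g8 * a * g8⁻¹)) ^ 13 = 1 := by
  apply Subtype.ext
  have h : (((a * (g8 * a * g8⁻¹)) ^ 13 : C) : H0) = (wH wa * wH wz) ^ 13 := by
    rw [← coe_z]; rfl
  rw [h, ← wH_append, ← wH_rep]
  exact rel (v := []) (by decide +kernel)

theorem pow8 : (a * (g8 * a * g8⁻¹) ^ 2) ^ 8 = 1 := by
  apply Subtype.ext
  have h : (((a * (g8 * a * g8⁻¹) ^ 2) ^ 8 : C) : H0) = (wH wa * (wH wz) ^ 2) ^ 8 := by
    rw [← coe_z]; rfl
  rw [h, ← wH_rep, ← wH_append, ← wH_rep]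
  exact rel (v := []) (by decide +kernel)

/-- one class of elements of order five -/
theorem exists_conj {y : C} (hy : orderOf y = 5) : ∃ s : C, s * y * s⁻¹ = a := by
  have hf : Finite H0 := fin_H0
  have : Fact (Nat.Prime 5) := ⟨by norm_num⟩
  have hPp : IsPGroup 5 Cfsg.Agent.CpAutTits.Fus.P := by
    refine IsPGroup.of_card (n := 2) ?_
    rw [Cfsg.Agent.CpAutTits.Fus.card_P]
    norm_num
  have hindex : ¬ 5 ∣ (Cfsg.Agent.CpAutTits.Fus.P : Subgroup C).index := by
    have h1 := (Cfsg.Agent.CpAutTits.Fus.P : Subgroup C).card_mul_index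
    rw [Cfsg.Agent.CpAutTits.Fus.card_P, H0_result.2.2.2] at h1
    have h2 : (Cfsg.Agent.CpAutTits.Fus.P : Subgroup C).index = 718848 := by omega
    rw [h2]
    norm_num
  have hp : IsPGroup 5 (zpowers y) := IsPGroup.of_card (n := 1) (by rw [Nat.card_zpowers, hy, pow_one])
  obtain ⟨Q, hQ⟩ := hp.exists_le_sylow
  obtain ⟨g, hg⟩ := MulAction.exists_smul_eq C Q (hPp.toSylow hindex)
  have h1 : g * y * g⁻¹ ∈ Cfsg.Agent.CpAutTits.Fus.P := by
    have h2 : g * y * g⁻¹ ∈ ((g • Q : Sylow 5 C) : Subgroup C) := by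
      rw [Sylow.coe_subgroup_smul]
      exact Subgroup.smul_mem_pointwise_smul _ _ _ (hQ (mem_zpowers y))
    rw [hg] at h2
    exact h2
  have h3 : g * y * g⁻¹ ≠ 1 := by
    intro h4
    have h5 : y = 1 := by
      have h6 := congrArg (fun u => g⁻¹ * u * g) h4
      simpa only [mul_assoc, _root_.inv_mul_cancel_left, _root_.inv_mul_cancel, _root_.mul_one] using h6
    rw [h5, orderOf_one] at hy
    omega
  obtain ⟨s, -, hs⟩ := Cfsg.Agent.CpAutTits.Fus.exists_conj_a h1 h3
  refine ⟨s⁻¹ * g, ?_⟩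
  calc s⁻¹ * g * y * (s⁻¹ * g)⁻¹ = s⁻¹ * (g * y * g⁻¹) * s := by group
    _ = s⁻¹ * (s * a * s⁻¹) * s := by rw [hs]
    _ = a := by group

/-- two conjugates of an element of order five generate a non-solvable group -/
theorem exists_pair {y : C} (hy : orderOf y = 5) : ∃ s t : C, ∀ S : Subgroup C, s * y * s⁻¹ ∈ S → t * y * t⁻¹ ∈ S →
    ¬ Group.IsSolvable S := by
  obtain ⟨s, hs⟩ := exists_conj hy
  refine ⟨s, g8 * s, fun S h1 h2 => ?_⟩
  have e : g8 * s * y * (g8 * s)⁻¹ = g8 * a * g8⁻¹ := by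
    rw [← hs]; group
  rw [e] at h2
  rw [hs] at h1
  refine not_solvable a5 ?_ pow13 pow8 a1 S h1 h2
  rw [conj_pow, a5]
  group

theorem exists_pair_aux (T : Subgroup (GL I52 (ZMod 2))) (hT : T = H0) {y : ↥(_root_.commutator T)}
    (hy : orderOf y = 5) : ∃ s t : ↥(_root_.commutator T), ∀ S : Subgroup ↥(_root_.commutator T),
      s * y * s⁻¹ ∈ S → t * y * t⁻¹ ∈ S → ¬ Group.IsSolvable S := by
  subst hT
  exact exists_pair hy

end Model

theorem exists_pair_iso {K : Type*} [Group K] (h : Lie.IsoTits K) {y : K} (hy : orderOf y = 5) :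
    ∃ s t : K, ∀ S : Subgroup K, s * y * s⁻¹ ∈ S → t * y * t⁻¹ ∈ S → ¬ Group.IsSolvable S := by
  obtain ⟨T, hT, ⟨e⟩⟩ := Cfsg.Agent.Omega.TwoF.TitsAut.exists_equiv h
  obtain ⟨s, t, hst⟩ := exists_pair_aux T hT (y := e y) (by rw [MulEquiv.orderOf_eq, hy])
  refine ⟨e.symm s, e.symm t, fun S h1 h2 hs => ?_⟩
  refine hst (S.map e.toMonoidHom) ⟨_, h1, by simp only [_root_.MulEquiv.toMonoidHom_eq_coe, _root_.MonoidHom.coe_coe, _root_.map_mul, _root_.MulEquiv.apply_symm_apply, _root_.map_inv]⟩ ⟨_, h2, by simp only [_root_.MulEquiv.toMonoidHom_eq_coe, _root_.MonoidHom.coe_coe, _root_.map_mul, _root_.MulEquiv.apply_symm_apply, _root_.map_inv]⟩ ?_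
  exact isSolvable_map hs _

/-- **row Tits** -/
theorem endAt_tits {K : Type*} [Group K] [Finite K] [IsSimpleGroup K] {p : ℕ} [Fact p.Prime]
    (h : Cfsg.Lie.IsoTits K) (hp : 5 ≤ p) : EndAt p K := by
  intro x hx _ hP
  have ho := Cfsg.Agent.CpAutTits.Row.out h
  obtain ⟨y, rfl⟩ := Cfsg.Agent.CpAutTits.Row.autInner h (Fact.out : p.Prime) (by omega) x hx
  have hc := Cfsg.Agent.CpAutTits.Row.center_bot ho
  have hy : orderOf y = p := by rw [← Cfsg.Agent.CpAut.orderOf_conj hc y, hx]
  have hdvd : p ∣ 2 ^ 11 * 3 ^ 3 * 5 ^ 2 * 13 := by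
    rw [← ho.card, ← hy]
    exact _root_.orderOf_dvd_natCard y
  have hp' : p.Prime := Fact.out
  have hcases : p = 5 ∨ p = 13 := by
    rcases (Nat.Prime.dvd_mul hp').1 hdvd with h1 | h1
    · rcases (Nat.Prime.dvd_mul hp').1 h1 with h1 | h1
      · rcases (Nat.Prime.dvd_mul hp').1 h1 with h1 | h1
        · have := (Nat.prime_dvd_prime_iff_eq hp' Nat.prime_two).1 (hp'.dvd_of_dvd_pow h1)
          omega
        · have := (Nat.prime_dvd_prime_iff_eq hp' Nat.prime_three).1 (hp'.dvd_of_dvd_pow h1)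
          omega
      · exact Or.inl ((Nat.prime_dvd_prime_iff_eq hp' (by norm_num)).1 (hp'.dvd_of_dvd_pow h1))
    · exact Or.inr ((Nat.prime_dvd_prime_iff_eq hp' (by norm_num)).1 h1)
  rcases hcases with rfl | rfl
  · exfalso
    obtain ⟨s, t, hst⟩ := exists_pair_iso h hy
    have h1 := hP ![s, t]
    set H : Subgroup (MulAut K) :=
      _root_.Subgroup.closure (Set.range fun i => MulAut.conj ((![s, t] : Fin 2 → K) i) * MulAut.conj y *
        (MulAut.conj ((![s, t] : Fin 2 → K) i))⁻¹) with hH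
    have hinj : Function.Injective (MulAut.conj : K →* MulAut K) := by
      rw [← MonoidHom.ker_eq_bot_iff, eq_bot_iff, ← hc]
      intro a ha
      rw [mem_center_iff]
      intro b
      have h2 : MulAut.conj a b = b := by rw [(MonoidHom.mem_ker).1 ha]; rfl
      have h3 : a * b * a⁻¹ = b := h2
      rw [mul_inv_eq_iff_eq_mul] at h3
      exact h3.symm
    refine hst (H.comap MulAut.conj) ?_ ?_ ?_
    · rw [mem_comap]
      refine subset_closure ⟨0, ?_⟩
      simp only [_root_.Fin.isValue, _root_.Matrix.cons_val_zero, _root_.map_mul, _root_.map_inv]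
    · rw [mem_comap]
      refine subset_closure ⟨1, ?_⟩
      simp only [_root_.Fin.isValue, _root_.Matrix.cons_val_one, _root_.Matrix.cons_val_fin_one, _root_.map_mul, _root_.map_inv]
    · let f : ↥(H.comap (MulAut.conj : K →* MulAut K)) →* H := (MulAut.conj : K →* MulAut K).subgroupComap H
      refine Group.isSolvable_of_isSolvable_injective (f := f) ?_
      intro a b hab
      apply Subtype.ext
      apply hinj
      exact congrArg Subtype.val hab
  · refine ⟨⟨y, rfl⟩, fun P => ?_⟩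
    have h1 : Nat.card P = 13 := by
      have h2 := P.card_eq_multiplicity
      rw [ho.card] at h2
      have h3 : (2 ^ 11 * 3 ^ 3 * 5 ^ 2 * 13).factorization 13 = 1 := by
        have h4 : (2 ^ 11 * 3 ^ 3 * 5 ^ 2 * 13 : ℕ) = 13 ^ 1 * 1382400 := by norm_num
        rw [h4]
        rw [Nat.factorization_mul (by norm_num) (by norm_num), Finsupp.add_apply,
          Nat.Prime.factorization_pow (by norm_num), Nat.factorization_eq_zero_of_not_dvd (n := 1382400) (by norm_num)]
        simp
      rw [h3, pow_one] at h2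
      exact h2
    exact isCyclic_of_prime_card (p := 13) h1

end Cfsg.Agent.H804.TitsFive
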